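import Cfsg.Agent.Lib.Recognition.G2Four.Field
import Cfsg.Agent.Lib.Sp.Group
import Cfsg.Agent.Lib.Presented.HeSp4.Data

/-!
The semilinear symplectic group on four coordinates over four elements, as permutations of the vectors.
-/

set_option autoImplicit false
set_option maxRecDepth 100000

namespace CfsgLib.Presented.HeSp4

open Matrix CfsgLib.Recognition.G2Four

/-- The coordinates. -/
abbrev Idx : Type := Fin 2 ⊕ Fin 2

/-- The vectors. -/
abbrev V : Type := Idx → F4

/-- The symplectic group. -/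
abbrev Sp4 : Type := Matrix.symplecticGroup (Fin 2) F4

/-- The number of a coordinate. -/
def num : Idx → ℕ
  | .inl i => i.val
  | .inr i => 2 + i.val

/-- The field automorphism. -/
def fr : F4 →+* F4 where
  toFun a := a * a
  map_one' := one_mul 1
  map_mul' a b := mul_mul_mul_comm a b a b
  map_zero' := zero_mul 0
  map_add' a b := by
    have h : ∀ i j : Fin 4, ((⟨i⟩ : F4) + ⟨j⟩) * (⟨i⟩ + ⟨j⟩) = ⟨i⟩ * ⟨i⟩ + ⟨j⟩ * ⟨j⟩ := by decide +kernel
    exact h a.v b.v

theorem fr_fr (a : F4) : fr (fr a) = a := by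
  have h : ∀ i : Fin 4, fr (fr ⟨i⟩) = ⟨i⟩ := by decide +kernel
  exact h a.v

/-- The field automorphism on vectors. -/
def frV (v : V) : V := fun i => fr (v i)

theorem frV_frV (v : V) : frV (frV v) = v := funext fun i => fr_fr (v i)

theorem frV_smul (c : F4) (v : V) : frV (c • v) = fr c • frV v := funext fun i => map_mul fr c (v i)

/-- The field automorphism as a permutation of the vectors. -/
def frP : Equiv.Perm V := ⟨frV, frV, frV_frV, frV_frV⟩

theorem frP_mul_self : frP * frP = 1 := Equiv.ext frV_frV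

/-- The linear maps as permutations of the vectors. -/
noncomputable def linP : Sp4 →* Equiv.Perm V where
  toFun A := (CfsgLib.Sp.toEquiv 2 F4 A).toEquiv
  map_one' := by rw [map_one]; rfl
  map_mul' A B := by rw [map_mul]; rfl

theorem linP_apply (A : Sp4) (v : V) : linP A v = A.1 *ᵥ v := rfl

theorem linP_injective : Function.Injective linP := fun A B h =>
  CfsgLib.Sp.toEquiv_injective (LinearEquiv.ext fun v => Equiv.congr_fun h v)

/-- The field automorphism on the group. -/
def frG (A : Sp4) : Sp4 := ⟨A.1.map fr, by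
  rw [SymplecticGroup.mem_iff']
  have h := congrArg (fun M : Matrix Idx Idx F4 => M.map fr) (SymplecticGroup.mem_iff'.1 A.2)
  have hJ : (Matrix.J (Fin 2) F4).map fr = Matrix.J (Fin 2) F4 := by decide +kernel
  simp only [Matrix.map_mul, Matrix.transpose_map, hJ] at h
  exact h⟩

theorem frP_linP (A : Sp4) : frP * linP A = linP (frG A) * frP := by
  refine Equiv.ext fun v => funext fun i => ?_
  exact RingHom.map_mulVec fr A.1 v i

/-- A semilinear map from a matrix and a switch for the field automorphism. -/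
noncomputable def semP (p : Sp4 × Bool) : Equiv.Perm V := linP p.1 * (bif p.2 then frP else 1)

/-- The semilinear symplectic group. -/
noncomputable def gammaSp : Subgroup (Equiv.Perm V) where
  carrier := {T | ∃ A : Sp4, ∃ s : Bool, T = semP (A, s)}
  one_mem' := ⟨1, false, by simp [semP]⟩
  mul_mem' := by
    rintro _ _ ⟨A, s, rfl⟩ ⟨B, t, rfl⟩
    cases s
    · exact ⟨A * B, t, by simp [semP, mul_assoc]⟩
    · refine ⟨A * frG B, !t, ?_⟩
      show linP A * frP * (linP B * _) = linP (A * frG B) * _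
      rw [mul_assoc (linP A), ← mul_assoc frP, frP_linP, map_mul]
      cases t <;> simp [mul_assoc, frP_mul_self]
  inv_mem' := by
    rintro _ ⟨A, s, rfl⟩
    cases s
    · exact ⟨A⁻¹, false, by simp [semP]⟩
    · refine ⟨frG A⁻¹, true, ?_⟩
      have e : frP⁻¹ = frP := inv_eq_of_mul_eq_one_left frP_mul_self
      show (linP A * frP)⁻¹ = linP (frG A⁻¹) * frP
      rw [_root_.mul_inv_rev, e, ← map_inv, frP_linP]

theorem semP_apply (p : Sp4 × Bool) (v : V) :
    semP p v = p.1.1 *ᵥ (bif p.2 then frV v else v) := by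
  rcases p with ⟨A, _ | _⟩ <;> rfl

theorem mem_gammaSp (p : Sp4 × Bool) : semP p ∈ gammaSp := ⟨p.1, p.2, rfl⟩

theorem gammaSp_smul {T : Equiv.Perm V} (hT : T ∈ gammaSp) {c : F4} (hc : c ≠ 0) (v : V) :
    ∃ d : F4, d ≠ 0 ∧ T (c • v) = d • T v := by
  obtain ⟨A, s, rfl⟩ := hT
  cases s
  · exact ⟨c, hc, by rw [semP_apply, semP_apply]; exact Matrix.mulVec_smul _ _ _⟩
  · exact ⟨fr c, by simpa using hc, by
      rw [semP_apply, semP_apply]
      show A.1 *ᵥ frV (c • v) = _
      rw [frV_smul, Matrix.mulVec_smul]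
      rfl⟩

/-- A point by its place in the list. -/
def pt (i : ℕ) : V := fun k => ⟨(pts.getD i []).getD (num k) 0⟩

theorem diag_check : ∀ a b c d : Fin 4, ∀ s : Bool,
    let A : Matrix Idx Idx F4 := Matrix.diagonal (Sum.elim ![⟨a⟩, ⟨b⟩] ![⟨c⟩, ⟨d⟩])
    Aᵀ * Matrix.J (Fin 2) F4 * A = Matrix.J (Fin 2) F4 →
    (∀ i ∈ [37, 25, 22, 53], ∃ k : Fin 4, A *ᵥ (bif s then frV (pt i) else pt i) = (⟨k⟩ : F4) • pt i) →
    A = 1 ∧ s = false := by
  decide +kernel

theorem pt_unit : pt 21 = Pi.single (.inl 0) 1 ∧ pt 5 = Pi.single (.inl 1) 1 ∧ pt 1 = Pi.single (.inr 0) 1 ∧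
    pt 0 = Pi.single (.inr 1) 1 ∧ frV (pt 21) = pt 21 ∧ frV (pt 5) = pt 5 ∧ frV (pt 1) = pt 1 ∧
    frV (pt 0) = pt 0 := by
  decide +kernel

/-- Only the identity fixes all points. -/
theorem eq_one_of_fix {A : Sp4} {s : Bool} (h : ∀ i < 85, ∃ c : F4, semP (A, s) (pt i) = c • pt i) :
    A = 1 ∧ s = false := by
  obtain ⟨u0, u1, u2, u3, f0, f1, f2, f3⟩ := pt_unit
  have col : ∀ (i : ℕ) (j : Idx), i < 85 → frV (pt i) = pt i → pt i = Pi.single j 1 →
      ∀ k, k ≠ j → A.1 k j = 0 := by
    intro i j hi hf hu k hk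
    obtain ⟨c, hc⟩ := h i hi
    rw [semP_apply] at hc
    have : (bif s then frV (pt i) else pt i) = pt i := by cases s <;> simp [hf]
    rw [this, hu, Matrix.mulVec_single_one] at hc
    have h2 := congrFun hc k
    simpa [hk] using h2
  have hd : A.1 = Matrix.diagonal (Sum.elim ![⟨(A.1 (.inl 0) (.inl 0)).v⟩, ⟨(A.1 (.inl 1) (.inl 1)).v⟩]
      ![⟨(A.1 (.inr 0) (.inr 0)).v⟩, ⟨(A.1 (.inr 1) (.inr 1)).v⟩]) := by
    ext k j
    by_cases hkj : k = j
    · subst hkj
      rw [Matrix.diagonal_apply_eq]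
      rcases k with k | k <;> fin_cases k <;> rfl
    · rw [Matrix.diagonal_apply_ne _ hkj]
      rcases j with j | j <;> fin_cases j
      · exact col 21 _ (by norm_num) f0 u0 k hkj
      · exact col 5 _ (by norm_num) f1 u1 k hkj
      · exact col 1 _ (by norm_num) f2 u2 k hkj
      · exact col 0 _ (by norm_num) f3 u3 k hkj
  obtain ⟨h1, h2⟩ := diag_check _ _ _ _ s (hd ▸ SymplecticGroup.mem_iff'.1 A.2) (fun i hi => by
    obtain ⟨c, hc⟩ := h i (by simp at hi; omega)
    rw [semP_apply] at hc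
    exact ⟨c.v, hd ▸ hc⟩)
  exact ⟨Subtype.ext (hd.trans h1), h2⟩

theorem semP_injective : Function.Injective semP := by
  rintro ⟨A, s⟩ ⟨B, t⟩ h
  have key : ∀ (C : Sp4) (u : Bool), semP (C, u) = 1 → C = 1 ∧ u = false := fun C u hC =>
    eq_one_of_fix fun i _ => ⟨1, by rw [hC, one_smul]; rfl⟩
  have h1 : linP (B⁻¹ * A) * (bif s then frP else 1) = bif t then frP else 1 := by
    simp only [semP] at h
    rw [map_mul, map_inv, mul_assoc, h, ← mul_assoc, inv_mul_cancel, one_mul]
  cases s <;> cases t <;> simp only [cond_false, cond_true, mul_one] at h1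
  · have := (key (B⁻¹ * A) false (by simpa [semP] using h1)).1
    rw [inv_mul_eq_one.1 this]
  · exfalso
    have h2 : semP (B⁻¹ * A, true) = 1 := by
      show linP (B⁻¹ * A) * frP = 1
      rw [h1, frP_mul_self]
    exact Bool.noConfusion (key _ _ h2).2
  · exfalso
    exact Bool.noConfusion (key (B⁻¹ * A) true (by simpa [semP] using h1)).2
  · have h2 : linP (B⁻¹ * A) = 1 := mul_right_cancel (h1.trans (one_mul frP).symm)
    have := (key (B⁻¹ * A) false (by simpa [semP] using h2)).1
    rw [inv_mul_eq_one.1 this]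

/-- A matrix from rows. -/
def rowsM (r : List (List (Fin 4))) : Matrix Idx Idx F4 :=
  Matrix.of fun i j => ⟨(r.getD (num i) []).getD (num j) 0⟩

/-- The symplectic matrix of a generator, as raw data. -/
def genM (k : ℕ) : Matrix Idx Idx F4 :=
  if k < 7 then rowsM (gens.getD k ([], false)).1 else 1

/-- The switch of a generator. -/
def genS (k : ℕ) : Bool := if k < 7 then (gens.getD k ([], false)).2 else false

theorem genM_check : ∀ k : Fin 7, (genM k.val)ᵀ * Matrix.J (Fin 2) F4 * genM k.val = Matrix.J (Fin 2) F4 := by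
  decide +kernel

theorem genM_mem (k : ℕ) : genM k ∈ Matrix.symplecticGroup (Fin 2) F4 := by
  by_cases hk : k < 7
  · exact SymplecticGroup.mem_iff'.2 (genM_check ⟨k, hk⟩)
  · rw [genM, if_neg hk]; exact one_mem _

/-- The matrix of a generator. -/
def genA (k : ℕ) : Sp4 := ⟨genM k, genM_mem k⟩

/-- The semilinear map of a generator. -/
noncomputable def genP (k : ℕ) : Equiv.Perm V := semP (genA k, genS k)

/-- The matrix and switch of a word. -/
def wordM : List ℕ → Matrix Idx Idx F4 × Bool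
  | [] => (1, false)
  | k :: w => (genM k * (bif genS k then (wordM w).1.map fr else (wordM w).1), Bool.xor (genS k) (wordM w).2)

theorem evW_genP : ∀ (w : List ℕ) (v : V),
    (w.map genP).prod v = (wordM w).1 *ᵥ (bif (wordM w).2 then frV v else v)
  | [], v => by simp [wordM]
  | k :: w, v => by
    rw [List.map_cons, List.prod_cons, Equiv.Perm.mul_apply, evW_genP w v, genP, semP_apply, wordM]
    show genM k *ᵥ _ = _
    have hmap : ∀ (M : Matrix Idx Idx F4) (x : V), frV (M *ᵥ x) = M.map fr *ᵥ frV x := fun M x =>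
      funext fun i => RingHom.map_mulVec fr M x i
    cases genS k <;> cases (wordM w).2 <;> simp [hmap, frV_frV, Matrix.mulVec_mulVec]

theorem tWord_check : ∀ c : Fin 2, wordM (tWords.getD c.val []) =
    (Cfsg.sympTransvection 2 (pt 21) (⟨⟨c.val + 1, by omega⟩⟩ : F4), false) := by
  decide +kernel

theorem img_check : ∀ k : Fin 7, ∀ i : Fin 85, ((img.getD k.val []).getD i.val (0, 0)).1 < 85 ∧
    (⟨((img.getD k.val []).getD i.val (0, 0)).2⟩ : F4) ≠ 0 ∧
    genM k.val *ᵥ (bif genS k.val then frV (pt i.val) else pt i.val) =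
      (⟨((img.getD k.val []).getD i.val (0, 0)).2⟩ : F4) • pt ((img.getD k.val []).getD i.val (0, 0)).1 := by
  decide +kernel

theorem tree_check : ∀ n : Fin 85, (n.val = 0 → (tree.getD n.val (0, 0, 0)).1 = 21) ∧
    (0 < n.val → (tree.getD n.val (0, 0, 0)).2.1 < n.val ∧ (tree.getD n.val (0, 0, 0)).2.2 < 7 ∧
      (tree.getD (tree.getD n.val (0, 0, 0)).2.1 (0, 0, 0)).1 < 85 ∧
      ((img.getD (tree.getD n.val (0, 0, 0)).2.2 []).getD
        (tree.getD (tree.getD n.val (0, 0, 0)).2.1 (0, 0, 0)).1 (0, 0)).1 = (tree.getD n.val (0, 0, 0)).1) := by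
  decide +kernel

theorem cover_check : ∀ a b c d : Fin 4, ∃ n : Fin 85, ∃ k : Fin 4,
    (Sum.elim ![⟨a⟩, ⟨b⟩] ![⟨c⟩, ⟨d⟩] : V) = (⟨k⟩ : F4) • pt (tree.getD n.val (0, 0, 0)).1 := by
  decide +kernel

theorem exists_smul_pt (v : V) : ∃ n < 85, ∃ k : F4, v = k • pt (tree.getD n (0, 0, 0)).1 := by
  obtain ⟨n, k, e⟩ := cover_check (v (.inl 0)).v (v (.inl 1)).v (v (.inr 0)).v (v (.inr 1)).v
  refine ⟨n.val, n.2, ⟨k⟩, Eq.trans (funext fun i => ?_) e⟩
  rcases i with i | i <;> fin_cases i <;> rfl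

theorem map_tmat (v : V) (c : F4) :
    frG (CfsgLib.Sp.tmat v c) = CfsgLib.Sp.tmat (frV v) (fr c) := by
  refine Subtype.ext ?_
  show (Cfsg.sympTransvection 2 v c).map fr = Cfsg.sympTransvection 2 (frV v) (fr c)
  have hJ : (Matrix.J (Fin 2) F4).map fr = Matrix.J (Fin 2) F4 := by decide +kernel
  ext i j
  have hv : fr ((Matrix.J (Fin 2) F4 *ᵥ v) j) = (Matrix.J (Fin 2) F4 *ᵥ frV v) j := by
    rw [RingHom.map_mulVec, hJ]
    rfl
  simp [Cfsg.sympTransvection, Matrix.one_apply, Matrix.vecMulVec_apply, ← hv, apply_ite fr, frV]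

/-- A subgroup containing the images of the generators contains the linear group. -/
theorem linP_mem {K : Subgroup (Equiv.Perm V)} (hK : ∀ k < 7, genP k ∈ K) (A : Sp4) : linP A ∈ K := by
  let U : Subgroup Sp4 := K.comap linP
  suffices U = ⊤ by
    have h : A ∈ U := this ▸ Subgroup.mem_top A
    exact h
  have hgen : ∀ k, genP k ∈ K := fun k => by
    by_cases hk : k < 7
    · exact hK k hk
    · have : genP k = 1 := by
        rw [genP, show genS k = false by rw [genS, if_neg hk],
          show genA k = 1 from Subtype.ext (by show genM k = 1; rw [genM, if_neg hk])]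
        simp [semP]
      rw [this]; exact one_mem K
  have hw : ∀ c : Fin 2, CfsgLib.Sp.tmat (pt 21) (⟨⟨c.val + 1, by omega⟩⟩ : F4) ∈ U := by
    intro c
    show linP _ ∈ K
    have hp : linP (CfsgLib.Sp.tmat (pt 21) (⟨⟨c.val + 1, by omega⟩⟩ : F4)) =
        ((tWords.getD c.val []).map genP).prod := by
      refine Equiv.ext fun v => ?_
      rw [evW_genP, tWord_check]
      rfl
    rw [hp]
    refine list_prod_mem fun x hx => ?_
    obtain ⟨k, -, rfl⟩ := List.mem_map.1 hx
    exact hgen k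
  have base : ∀ c : F4, CfsgLib.Sp.tmat (pt 21) c ∈ U := by
    have h1 := hw 0
    have h2 := hw 1
    intro c
    obtain ⟨⟨i, hi⟩⟩ := c
    interval_cases i
    · show CfsgLib.Sp.tmat (pt 21) (0 : F4) ∈ U
      rw [CfsgLib.Sp.tmat_zero]; exact one_mem U
    · exact h1
    · exact h2
    · have := mul_mem h1 h2
      rw [CfsgLib.Sp.tmat_mul] at this
      exact this
  have all : ∀ n, n < 85 → ∀ c : F4, CfsgLib.Sp.tmat (pt (tree.getD n (0, 0, 0)).1) c ∈ U := by
    intro n
    induction n using Nat.strong_induction_on with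
    | _ n ih =>
      intro hn c
      obtain ⟨h0, h1⟩ := tree_check ⟨n, hn⟩
      rcases Nat.eq_zero_or_pos n with rfl | hpos
      · rw [h0 rfl]; exact base c
      · obtain ⟨hp, hk, hlt, he⟩ := h1 hpos
        simp only at hp hk hlt he
        set k := (tree.getD n (0, 0, 0)).2.2
        set p := (tree.getD (tree.getD n (0, 0, 0)).2.1 (0, 0, 0)).1
        obtain ⟨-, hd0, hd⟩ := img_check ⟨k, hk⟩ ⟨p, hlt⟩
        simp only at hd hd0
        rw [he] at hd
        set d : F4 := ⟨((img.getD k []).getD p (0, 0)).2⟩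
        have key : ∀ e : F4, CfsgLib.Sp.tmat (d • pt (tree.getD n (0, 0, 0)).1) e ∈ U := by
          intro e
          show linP _ ∈ K
          set e' : F4 := bif genS k then fr e else e
          have hm : linP (CfsgLib.Sp.tmat (pt p) e') ∈ K := ih _ hp (by omega) e'
          have hc : genP k * linP (CfsgLib.Sp.tmat (pt p) e') * (genP k)⁻¹ =
              linP (CfsgLib.Sp.tmat (d • pt (tree.getD n (0, 0, 0)).1) e) := by
            rw [mul_inv_eq_iff_eq_mul]
            show linP (genA k) * (bif genS k then frP else 1) * _ = _ * (linP (genA k) * _)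
            rw [← hd]
            rcases hs : genS k with _ | _
            · simp only [hs, cond_false, mul_one, e', ← map_mul]
              rw [show genM k *ᵥ pt p = (genA k).1 *ᵥ pt p from rfl, ← CfsgLib.Sp.conj_tmat,
                inv_mul_cancel_right]
            · simp only [hs, cond_true, e']
              rw [mul_assoc (linP (genA k)), frP_linP, map_tmat, fr_fr, ← mul_assoc, ← map_mul,
                ← mul_assoc (linP _) (linP (genA k)), ← map_mul]
              congr 2
              rw [show (genM k *ᵥ frV (pt p)) = (genA k).1 *ᵥ frV (pt p) from rfl, ← CfsgLib.Sp.conj_tmat,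
                inv_mul_cancel_right]
          rw [← hc]
          exact mul_mem (mul_mem (hgen k) hm) (inv_mem (hgen k))
        have h2 := key (c * (d⁻¹ * d⁻¹))
        rw [CfsgLib.Sp.tmat_smul, show c * (d⁻¹ * d⁻¹) * d * d = c by field_simp] at h2
        exact h2
  refine CfsgLib.Sp.le_of_tmat_mem fun v c => ?_
  obtain ⟨n, hn, a, rfl⟩ := exists_smul_pt v
  rw [CfsgLib.Sp.tmat_smul]
  exact all n hn _

end CfsgLib.Presented.HeSp4
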