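import Cfsg.Agent.Lib.Presented.HeOrder
import Cfsg.Agent.Lib.Presented.HeSp4.Semi
import Cfsg.Agent.S0245

/-!
The first subgroup of the presented Held group is the semilinear symplectic group on four coordinates over
four elements: it permutes eighty-five blocks in one orbit as the semilinear group permutes the points.
-/

set_option autoImplicit false
set_option maxRecDepth 100000

namespace CfsgLib.Presented.HeSp4

open CfsgLib.Recognition.G2Four Vec

local notation "R₀" => HeCert.rep

/-- The mask of a block. -/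
def mask (i : ℕ) : ℕ := masks.getD i 0

theorem mask_check : ∀ i : Fin 85, Nat.blt (mask i.val) (2 ^ 2058) = true ∧
    ∀ j : Fin 85, Nat.beq (mask i.val) (mask j.val) = true → i = j := by
  decide +kernel

theorem block_check : ∀ k : Fin 7, ((HeCosets.hWords.getD k.val []).all fun y => Nat.blt y HeCert.alphabet.eps) = true ∧
    ∀ i : Fin 85, Nat.beq (applyNet ((R₀).netW (HeCosets.hWords.getD k.val []))
      (mask ((img.getD k.val []).getD i.val (0, 0)).1)) (mask i.val) = true := by
  decide +kernel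

/-- A pair moves blocks as points. -/
def Compat (p : Cfsg.Spor.He × Equiv.Perm V) : Prop :=
  p.2 ∈ gammaSp ∧ ∀ i < 85, ∃ j < 85, ∃ c : F4, c ≠ 0 ∧
    (∀ x : Fin (R₀).N, (mask j).testBit (HeCosets.phi p.1 x) = (mask i).testBit x) ∧
    p.2 (pt i) = c • pt j

theorem compat_one : Compat 1 :=
  ⟨one_mem _, fun i hi => ⟨i, hi, 1, one_ne_zero, fun x => by simp, by simp⟩⟩

theorem compat_mul {p q : Cfsg.Spor.He × Equiv.Perm V} (hp : Compat p) (hq : Compat q) : Compat (p * q) := by
  refine ⟨mul_mem hp.1 hq.1, fun i hi => ?_⟩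
  obtain ⟨j, hj, c, hc, hb, e⟩ := hq.2 i hi
  obtain ⟨k, hk, d, hd, hb', e'⟩ := hp.2 j hj
  obtain ⟨c', hc', e''⟩ := gammaSp_smul hp.1 hc (pt j)
  refine ⟨k, hk, c' * d, mul_ne_zero hc' hd, fun x => ?_, ?_⟩
  · rw [Prod.fst_mul, map_mul, Equiv.Perm.mul_apply, hb', hb]
  · rw [Prod.snd_mul, Equiv.Perm.mul_apply, e, e'', e', smul_smul]

/-- The pair of a generator. -/
noncomputable def pair (k : Fin 7) : Cfsg.Spor.He × Equiv.Perm V :=
  (evW HeCosets.ev (HeCosets.hWords.getD k.val []), genP k.val)

theorem compat_pair (k : Fin 7) : Compat (pair k) := by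
  refine ⟨mem_gammaSp _, fun i hi => ?_⟩
  obtain ⟨h1, h2, h3⟩ := img_check k ⟨i, hi⟩
  refine ⟨_, h1, _, h2, fun x => ?_, (semP_apply (genA k.val, genS k.val) (pt i)).trans h3⟩
  obtain ⟨hlt, hb⟩ := block_check k
  simp only [List.all_eq_true, Nat.blt_eq] at hlt
  set w := HeCosets.hWords.getD k.val []
  have hw : HeCosets.phi (evW HeCosets.ev w) = evW ((R₀).perm HeCosets.rep_valid) w := by
    simp only [evW, map_list_prod, List.map_map]
    rw [List.map_congr_left (f := ⇑HeCosets.phi ∘ HeCosets.ev) (g := (R₀).perm HeCosets.rep_valid)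
      fun y hy => HeCosets.phi_ev y (hlt y hy)]
  show (mask _).testBit (HeCosets.phi (evW HeCosets.ev w) x : ℕ) = _
  rw [hw, Rep.netW_perm, ← testBit_applyNet (Rep.netOk_netW HeCosets.rep_valid w),
    Nat.eq_of_beq_eq_true (hb ⟨i, hi⟩)]

instance finite_He : Finite Cfsg.Spor.He := Nat.finite_of_card_ne_zero (by rw [HeOrder.card_eq]; norm_num)

/-- The graph of the identification. -/
noncomputable def graph : Subgroup (Cfsg.Spor.He × Equiv.Perm V) := Subgroup.closure (Set.range pair)

theorem compat_graph {p : Cfsg.Spor.He × Equiv.Perm V} (hp : p ∈ graph) : Compat p := by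
  induction hp using Subgroup.closure_induction with
  | mem s hs => obtain ⟨k, rfl⟩ := hs; exact compat_pair k
  | one => exact compat_one
  | mul a b _ _ iha ihb => exact compat_mul iha ihb
  | inv a _ iha =>
    have hfin : IsOfFinOrder a := isOfFinOrder_of_finite a
    have hn : ∀ n, Compat (a ^ n) := fun n => by
      induction n with
      | zero => rw [pow_zero]; exact compat_one
      | succ n ihn => rw [pow_succ]; exact compat_mul ihn iha
    have : a⁻¹ ∈ Submonoid.powers a :=
      hfin.mem_powers_iff_mem_zpowers.2 (inv_mem (Subgroup.mem_zpowers a))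
    obtain ⟨n, hn'⟩ := this
    rw [← hn']
    exact hn n

theorem snd_eq_one {p : Cfsg.Spor.He × Equiv.Perm V} (hp : p ∈ graph) (h : p.1 = 1) : p.2 = 1 := by
  obtain ⟨hT, hall⟩ := compat_graph hp
  obtain ⟨A, s, e⟩ := hT
  have hfix : ∀ i < 85, ∃ c : F4, semP (A, s) (pt i) = c • pt i := by
    intro i hi
    obtain ⟨j, hj, c, -, hb, hv⟩ := hall i hi
    have hm : mask j = mask i := by
      refine Nat.eq_of_testBit_eq fun x => ?_
      by_cases hx : x < 2058
      · have := hb ⟨x, hx⟩
        rwa [h, map_one, Equiv.Perm.one_apply] at this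
      · have hp2 : 2 ^ 2058 ≤ 2 ^ x := Nat.pow_le_pow_right (by norm_num) (not_lt.1 hx)
        have hlt : ∀ m : Fin 85, mask m.val < 2 ^ 2058 := fun m => by
          simpa [Nat.blt_eq] using (mask_check m).1
        rw [Nat.testBit_lt_two_pow ((hlt ⟨j, hj⟩).trans_le hp2), Nat.testBit_lt_two_pow ((hlt ⟨i, hi⟩).trans_le hp2)]
    obtain rfl : j = i := congrArg Fin.val ((mask_check ⟨j, hj⟩).2 ⟨i, hi⟩ (by simp [hm]))
    exact ⟨c, e ▸ hv⟩
  obtain ⟨rfl, rfl⟩ := eq_one_of_fix hfix
  rw [e]
  simp [semP]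

theorem hWords_length : HeCosets.hWords.length = 7 := by decide +kernel

theorem map_fst : graph.map (MonoidHom.fst _ _) = HeCosets.H := by
  rw [graph, MonoidHom.map_closure, HeCosets.H_eq]
  congr 1
  ext g
  constructor
  · rintro ⟨_, ⟨k, rfl⟩, rfl⟩
    refine ⟨_, ?_, rfl⟩
    show _ ∈ HeCosets.hWords
    rw [List.getD_eq_getElem _ _ (hWords_length.symm ▸ k.2)]
    exact List.getElem_mem _
  · rintro ⟨w, hw, rfl⟩
    obtain ⟨k, hk, rfl⟩ := List.getElem_of_mem (show w ∈ HeCosets.hWords from hw)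
    refine ⟨_, ⟨⟨k, hWords_length ▸ hk⟩, rfl⟩, ?_⟩
    show evW HeCosets.ev _ = _
    rw [List.getD_eq_getElem _ _ hk]

theorem map_snd : graph.map (MonoidHom.snd _ _) = gammaSp := by
  refine le_antisymm ?_ ?_
  · rintro _ ⟨p, hp, rfl⟩
    exact (compat_graph hp).1
  · rintro _ ⟨A, s, rfl⟩
    have hK : ∀ k < 7, genP k ∈ graph.map (MonoidHom.snd _ _) := fun k hk =>
      ⟨pair ⟨k, hk⟩, Subgroup.subset_closure ⟨_, rfl⟩, rfl⟩
    have hfr : frP ∈ graph.map (MonoidHom.snd _ _) := by
      have h5 := hK 5 (by norm_num)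
      have e : genP 5 = linP (genA 5) * frP := by
        rw [genP, semP, show genS 5 = true by decide +kernel]
        rfl
      rw [e] at h5
      simpa using mul_mem (inv_mem (linP_mem hK (genA 5))) h5
    cases s
    · simpa [semP] using linP_mem hK A
    · exact mul_mem (linP_mem hK A) hfr

theorem card_sp : Nat.card Sp4 = 979200 := by
  rw [Cfsg.Agent.S0245.result F4.card_eq 2]
  norm_num [Finset.prod_range_succ]

theorem card_gammaSp : Nat.card gammaSp = 1958400 := by
  let f : Sp4 × Bool → gammaSp := fun p => ⟨semP p, mem_gammaSp p⟩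
  have hf : Function.Bijective f := by
    refine ⟨fun p q e => semP_injective (congrArg Subtype.val e), ?_⟩
    rintro ⟨_, A, s, rfl⟩
    exact ⟨(A, s), rfl⟩
  rw [← Nat.card_congr (Equiv.ofBijective f hf), Nat.card_prod, card_sp, Nat.card_eq_fintype_card,
    Fintype.card_bool]

theorem card_H : Nat.card HeCosets.H = 1958400 := by
  have h := HeCosets.H.card_mul_index
  rw [HeCosets.index_eq, HeOrder.card_eq] at h
  omega

/-- The subgroup of index two and its identification. -/
theorem exists_normal_sp : ∃ N : Subgroup HeCosets.H, N.Normal ∧ N.index = 2 ∧ Nonempty (N ≃* Sp4) := by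
  let f1 : graph →* HeCosets.H := ((MonoidHom.fst _ _).comp graph.subtype).codRestrict _ fun x =>
    map_fst ▸ Subgroup.mem_map_of_mem _ x.2
  let f2 : graph →* gammaSp := ((MonoidHom.snd _ _).comp graph.subtype).codRestrict _ fun x =>
    (compat_graph x.2).1
  have s1 : Function.Surjective f1 := by
    rintro ⟨y, hy⟩
    rw [← map_fst] at hy
    obtain ⟨z, hz, rfl⟩ := hy
    exact ⟨⟨z, hz⟩, rfl⟩
  have i1 : Function.Injective f1 := by
    refine (injective_iff_map_eq_one f1).2 fun x hx => ?_
    have h1 : x.1.1 = 1 := congrArg Subtype.val hx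
    exact Subtype.ext (Prod.ext h1 (snd_eq_one x.2 h1))
  have s2 : Function.Surjective f2 := by
    rintro ⟨y, hy⟩
    rw [← map_snd] at hy
    obtain ⟨z, hz, rfl⟩ := hy
    exact ⟨⟨z, hz⟩, rfl⟩
  let e1 := MulEquiv.ofBijective f1 ⟨i1, s1⟩
  have : Finite graph := Nat.finite_of_card_ne_zero (by rw [Nat.card_congr e1.toEquiv, card_H]; norm_num)
  have b2 := s2.bijective_of_nat_card_le (by rw [Nat.card_congr e1.toEquiv, card_H, card_gammaSp])
  let e : gammaSp ≃* HeCosets.H := (MulEquiv.ofBijective f2 b2).symm.trans e1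
  let lin : Sp4 →* gammaSp := linP.codRestrict _ fun A => ⟨A, false, by simp [semP]⟩
  let ι : Sp4 →* HeCosets.H := e.toMonoidHom.comp lin
  have hι : Function.Injective ι := fun A B h => linP_injective (congrArg Subtype.val (e.injective h))
  have hidx : ι.range.index = 2 := by
    have h := ι.range.card_mul_index
    rw [← Nat.card_congr (MonoidHom.ofInjective hι).toEquiv, card_sp, card_H] at h
    omega
  exact ⟨ι.range, Subgroup.normal_of_index_eq_two hidx, hidx, ⟨(MonoidHom.ofInjective hι).symm⟩⟩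

end CfsgLib.Presented.HeSp4
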